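import Cfsg.Agent.H665.DefZero
import Cfsg.Agent.H424.DegTools
import Cfsg.Prelude.Def_KGroupFacts

/-!
# Five character degrees from one prime (helper604, for S4898)

`G` is a finite group, `p` a prime with `p` exactly dividing `|G|`, the elements of order `p` are self-centralizing.

* `relIndex_eq` : `|N(P) : C(P)| = (|G| / p) mod p`;
* `exists_dvd_of_two`, `exists_dvd_of_odd` : some degree is divisible by `p` if there are two classes of involutions or
  if `|N(P) : C(P)|` is odd;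
* `five_of_degs` : at least five degrees, if no two divisors of `|G|` are `u`, `(e - 1) u ± 1`.
-/

set_option autoImplicit false

namespace Cfsg.Agent.H604.FD.Inner

open Subgroup Cfsg

/-! ### Enumeration of divisors -/

def loop (g : ℕ → Bool) (q : ℕ) : ℕ → ℕ → Bool
  | 0, a => g a
  | k + 1, a => g a && loop g q k (Nat.mul a q)

theorem loop_spec {g : ℕ → Bool} {q : ℕ} : ∀ {k a : ℕ}, loop g q k a = true → ∀ j ≤ k, g (a * q ^ j) = true := by
  intro k
  induction k with
  | zero =>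
    intro a h j hj
    obtain rfl : j = 0 := by omega
    simpa [loop] using h
  | succ k ih =>
    intro a h j hj
    rw [loop, Bool.and_eq_true] at h
    rcases j with _ | j
    · simpa using h.1
    · have := ih h.2 j (by omega)
      rw [show Nat.mul a q = a * q from rfl, mul_assoc, ← pow_succ'] at this
      exact this

def chkD (f : ℕ → Bool) : List (ℕ × ℕ) → ℕ → Bool
  | [] => f
  | x :: L => loop (chkD f L) x.1 x.2

theorem chkD_spec {f : ℕ → Bool} : ∀ {L : List (ℕ × ℕ)} {a : ℕ}, chkD f L a = true → (∀ x ∈ L, x.1.Prime) →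
    ∀ u, u ∣ (L.map fun x => x.1 ^ x.2).prod → f (a * u) = true := by
  intro L
  induction L with
  | nil =>
    intro a h _ u hu
    rw [List.map_nil, List.prod_nil, Nat.dvd_one] at hu
    rw [hu, mul_one]
    exact h
  | cons x L ih =>
    intro a h hL u hu
    rw [List.map_cons, List.prod_cons] at hu
    obtain ⟨v, w, hv, hw, rfl⟩ := (Nat.dvd_mul).1 hu
    obtain ⟨j, hj, rfl⟩ := (Nat.dvd_prime_pow (hL x (List.mem_cons_self ..))).1 hv
    have h1 := loop_spec (g := chkD f L) h j hj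
    have h2 := ih h1 (fun y hy => hL y (List.mem_cons_of_mem _ hy)) w hw
    rwa [mul_assoc] at h2

/-- the check for one divisor `u` -/
def chkU (N p e u : ℕ) : Bool :=
  Nat.beq u 1 ||
    (!(Nat.beq (Nat.mod u p) 1 && Nat.beq (Nat.mod N (Nat.add (Nat.mul (Nat.sub e 1) u) 1)) 0) &&
      !(Nat.beq (Nat.mod u p) (Nat.sub p 1) && Nat.beq (Nat.mod N (Nat.sub (Nat.mul (Nat.sub e 1) u) 1)) 0))

theorem chkU_spec {N p e u : ℕ} (h : chkU N p e u = true) (hu : u ≠ 1) :
    (u % p = 1 → ¬ ((e - 1) * u + 1) ∣ N) ∧ (u % p = p - 1 → ¬ ((e - 1) * u - 1) ∣ N) := by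
  unfold chkU at h
  rw [Bool.or_eq_true, Bool.and_eq_true] at h
  rcases h with h | ⟨h1, h2⟩
  · exact absurd (Nat.eq_of_beq_eq_true h) hu
  · rw [Bool.not_eq_true'] at h1 h2
    have key : ∀ {a b c d : ℕ}, (Nat.beq a b && Nat.beq c d) = false → a = b → c = d → False := by
      intro a b c d h3 h4 h5
      subst h4 h5
      rw [Nat.beq_refl, Nat.beq_refl] at h3
      exact absurd h3 (by decide)
    exact ⟨fun h3 h4 => key h1 h3 (Nat.mod_eq_zero_of_dvd h4), fun h3 h4 => key h2 h3 (Nat.mod_eq_zero_of_dvd h4)⟩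

/-! ### The index of the centralizer -/

theorem relIndex_dvd {G : Type*} [Group G] [Finite G] {p : ℕ} (hp : p.Prime) {P : Subgroup G} (hP : Nat.card P = p) :
    (centralizer (P : Set G)).relIndex (normalizer (P : Set G)) ∣ p - 1 := by
  have : Fact p.Prime := ⟨hp⟩
  have hcyc : IsCyclic P := isCyclic_of_prime_card hP
  let φ := P.normalizerMonoidHom
  have h1 : φ.ker = (centralizer (P : Set G)).subgroupOf (normalizer (P : Set G)) := P.normalizerMonoidHom_ker
  have hA : Nat.card (MulAut P) = p - 1 := by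
    rw [IsCyclic.card_mulAut, hP, Nat.totient_prime hp]
  rw [relIndex, ← h1, index_ker, ← hA]
  exact card_subgroup_dvd_card φ.range

theorem relIndex_eq {G : Type*} [Group G] [Finite G] {p : ℕ} [Fact p.Prime] (P : Sylow p G)
    (hP : Nat.card P = p) (hC : Nat.card (centralizer ((P : Subgroup G) : Set G)) = p) :
    (centralizer ((P : Subgroup G) : Set G)).relIndex (normalizer ((P : Subgroup G) : Set G)) = (Nat.card G / p) % p := by
  have hp : p.Prime := Fact.out
  set e := (centralizer ((P : Subgroup G) : Set G)).relIndex (normalizer ((P : Subgroup G) : Set G)) with he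
  have h1 : e ∣ p - 1 := relIndex_dvd hp hP
  have h2 : e < p := by
    have := Nat.le_of_dvd (by have := hp.two_le; omega) h1
    have := hp.two_le
    omega
  have hle : centralizer ((P : Subgroup G) : Set G) ≤ normalizer ((P : Subgroup G) : Set G) := by
    exact centralizer_le_normalizer _
  have h3 : e * p = Nat.card (normalizer ((P : Subgroup G) : Set G)) := by
    have := index_mul_card ((centralizer ((P : Subgroup G) : Set G)).subgroupOf (normalizer ((P : Subgroup G) : Set G)))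
    rwa [Nat.card_congr (subgroupOfEquivOfLe hle).toEquiv, hC] at this
  have h4 : Nat.card (Sylow p G) ≡ 1 [MOD p] := card_sylow_modEq_one p G
  have h5 : Nat.card (Sylow p G) = (normalizer ((P : Subgroup G) : Set G)).index := Sylow.card_eq_index_normalizer P
  have h6 := card_mul_index (normalizer ((P : Subgroup G) : Set G))
  rw [← h3, ← h5] at h6
  rw [← h6, show e * p * Nat.card (Sylow p G) = p * (e * Nat.card (Sylow p G)) by ring, Nat.mul_div_cancel_left _ hp.pos]
  have h7 : e * Nat.card (Sylow p G) ≡ e * 1 [MOD p] := Nat.ModEq.mul_left e h4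
  rw [mul_one] at h7
  have h8 : (e * Nat.card (Sylow p G)) % p = e % p := h7
  rw [h8, Nat.mod_eq_of_lt h2]

/-! ### Characters of defect zero -/

section zero

variable {G : Type*} [Group G] [Finite G] {p : ℕ}

omit [Finite G] in
theorem mem_cent {x g : G} : g ∈ centralizer ({x} : Set G) ↔ g * x = x * g := by
  rw [mem_centralizer_singleton_iff]

/-- `p` does not divide the order of the centralizer of an involution -/
theorem not_dvd_cent (hp : p.Prime) (hp2 : p ≠ 2)
    (hself : ∀ x : G, orderOf x = p → Nat.card (centralizer ({x} : Set G)) = p) {s : G} (hs : orderOf s = 2) :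
    ¬ p ∣ Nat.card (centralizer ({s} : Set G)) := by
  intro h
  have : Fact p.Prime := ⟨hp⟩
  obtain ⟨x, hx⟩ := exists_prime_orderOf_dvd_card' p h
  have h1 : orderOf (x : G) = p := by rw [orderOf_coe, hx]
  have h2 := mem_cent.1 x.2
  have h3 : s ∈ centralizer ({(x : G)} : Set G) := mem_cent.2 h2.symm
  have h4 := Subgroup.orderOf_dvd_natCard _ h3
  rw [hself _ h1, hs] at h4
  exact hp2 ((Nat.prime_dvd_prime_iff_eq Nat.prime_two hp).1 h4).symm

/-- either some degree is divisible by `p` or an involution conjugate to `s` inverts an element of order `p` -/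
theorem dvd_or (hp : p.Prime) (hp2 : p ≠ 2) (hdiv : p ∣ Nat.card G) (hsq : ¬ p ^ 2 ∣ Nat.card G)
    (hself : ∀ x : G, orderOf x = p → Nat.card (centralizer ({x} : Set G)) = p) {s : G} (hs : orderOf s = 2) :
    (∃ d ∈ charDegrees G, p ∣ d) ∨ ∃ g z : G, IsConj s g ∧ orderOf z = p ∧ g * z * g⁻¹ = z⁻¹ := by
  have : Fact p.Prime := ⟨hp⟩
  rcases Cfsg.Agent.H665.DefZero.defectZero_or p s (not_dvd_cent hp hp2 hself hs) with ⟨χ, hχ⟩ | ⟨g, h, hg, hh, hne, k, hk⟩
  · left
    refine ⟨_, ⟨χ, rfl⟩, ?_⟩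
    by_contra hcon
    have h1 := Nat.factorization_eq_zero_of_not_dvd hcon
    rw [h1] at hχ
    have h2 := (hp.dvd_iff_one_le_factorization (Nat.card_pos (α := G)).ne').1 hdiv
    omega
  · right
    have hsq' : ∀ {a : G}, IsConj s a → a * a = 1 := by
      intro a ha
      have h1 : orderOf a = 2 := by
        obtain ⟨c, rfl⟩ := isConj_iff.1 ha
        rw [← hs]
        exact (MulAut.conj c).orderOf_eq s
      have := pow_orderOf_eq_one a
      rwa [h1, pow_two] at this
    have hz : orderOf (g * h⁻¹) = p := by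
      have h1 : p ^ k ∣ Nat.card G := hk ▸ orderOf_dvd_natCard _
      rcases k with _ | _ | k
      · rw [pow_zero, orderOf_eq_one_iff] at hk
        exact absurd hk hne
      · rw [hk, zero_add, pow_one]
      · exact absurd (dvd_trans (pow_dvd_pow p (by omega)) h1) hsq
    refine ⟨g, g * h⁻¹, hg, hz, ?_⟩
    have h1 := hsq' hg
    have h2 := hsq' hh
    have h3 : g⁻¹ = g := inv_eq_of_mul_eq_one_left h1
    have h4 : h⁻¹ = h := inv_eq_of_mul_eq_one_left h2
    rw [mul_inv_rev, inv_inv, h3, h4, ← mul_assoc, h1, one_mul]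

/-- the involutions inverting elements of order `p` are conjugate -/
theorem conj_of_invert (hp : p.Prime) (hp2 : p ≠ 2) (hsq : ¬ p ^ 2 ∣ Nat.card G)
    (hself : ∀ x : G, orderOf x = p → Nat.card (centralizer ({x} : Set G)) = p) {g z g' z' : G}
    (hz : orderOf z = p) (hz' : orderOf z' = p) (hg : g * z * g⁻¹ = z⁻¹) (hg' : g' * z' * g'⁻¹ = z'⁻¹)
    : IsConj g g' := by
  have : Fact p.Prime := ⟨hp⟩
  have hdiv : p ∣ Nat.card G := hz ▸ orderOf_dvd_natCard z
  have hsyl : ∀ {x : G}, orderOf x = p → ∃ P : Sylow p G, (P : Subgroup G) = zpowers x := by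
    intro x hx
    obtain ⟨P, hP⟩ := (IsPGroup.of_card (G := zpowers x) (p := p) (n := 1)
      (by rw [pow_one, Nat.card_zpowers, hx])).exists_le_sylow
    refine ⟨P, (eq_of_le_of_card_ge hP ?_).symm⟩
    obtain ⟨n, hn⟩ := IsPGroup.iff_card.1 P.2
    have h1 : p ^ n ∣ Nat.card G := hn ▸ card_subgroup_dvd_card _
    have hn1 : n ≤ 1 := by
      by_contra hc
      exact hsq (dvd_trans (pow_dvd_pow p (by omega)) h1)
    rw [Nat.card_zpowers, hx, hn]
    calc p ^ n ≤ p ^ 1 := Nat.pow_le_pow_right hp.pos hn1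
      _ = p := pow_one p
  obtain ⟨P, hP⟩ := hsyl hz
  obtain ⟨Q, hQ⟩ := hsyl hz'
  obtain ⟨c, hc⟩ := MulAction.exists_smul_eq G Q P
  have hcz : c * z' * c⁻¹ ∈ zpowers z := by
    rw [← hP, ← hc]
    rw [Sylow.coe_subgroup_smul]
    refine ⟨z', ?_, rfl⟩
    rw [hQ]
    exact mem_zpowers z'
  -- the conjugate `k` of `g'` inverts `z`
  set k := c * g' * c⁻¹ with hk
  set w := c * z' * c⁻¹ with hw
  have hwo : orderOf w = p := by
    rw [hw, ← hz']
    exact (MulAut.conj c).orderOf_eq z'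
  have hkw : k * w * k⁻¹ = w⁻¹ := by
    rw [hk, hw]
    calc c * g' * c⁻¹ * (c * z' * c⁻¹) * (c * g' * c⁻¹)⁻¹ = c * (g' * z' * g'⁻¹) * c⁻¹ := by group
      _ = (c * z' * c⁻¹)⁻¹ := by rw [hg']; group
  have hzw : z ∈ zpowers w := by
    have h1 : zpowers w = zpowers z := by
      refine eq_of_le_of_card_ge (by rw [zpowers_le]; exact hcz) ?_
      rw [Nat.card_zpowers, Nat.card_zpowers, hz, hwo]
    rw [h1]
    exact mem_zpowers z
  obtain ⟨m, hm⟩ := mem_zpowers_iff.1 hzw
  have hkz : k * z * k⁻¹ = z⁻¹ := by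
    rw [← hm, ← conj_zpow, hkw, inv_zpow]
  -- `g⁻¹ k` centralizes `z`
  have hcent : zpowers z = centralizer ({z} : Set G) := by
    refine eq_of_le_of_card_ge (by rw [zpowers_le]; exact mem_cent.2 rfl) ?_
    rw [Nat.card_zpowers, hz, hself z hz]
  have hmem : g⁻¹ * k ∈ zpowers z := by
    rw [hcent, mem_cent]
    have h1 : g⁻¹ * z⁻¹ * g = z := by
      rw [← hg]; group
    calc g⁻¹ * k * z = g⁻¹ * (k * z * k⁻¹) * k := by group
      _ = (g⁻¹ * z⁻¹ * g) * (g⁻¹ * k) := by rw [hkz]; group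
      _ = z * (g⁻¹ * k) := by rw [h1]
  obtain ⟨j, hj⟩ := mem_zpowers_iff.1 hmem
  have hk' : k = g * z ^ j := by rw [hj]; group
  -- `z ^ i g z ^ (-i) = g z ^ (-2 i)`
  have hgi : ∀ i : ℤ, z ^ i * g * (z ^ i)⁻¹ = g * z ^ (-(2 * i)) := by
    intro i
    have h1 : g * z ^ (-i) * g⁻¹ = z ^ i := by
      rw [← conj_zpow, hg, inv_zpow, zpow_neg, inv_inv]
    calc z ^ i * g * (z ^ i)⁻¹ = (g * z ^ (-i) * g⁻¹) * g * (z ^ i)⁻¹ := by rw [h1]
      _ = g * (z ^ (-i) * (z ^ i)⁻¹) := by group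
      _ = g * z ^ (-(2 * i)) := by
        rw [← zpow_neg, ← zpow_add]
        congr 2
        ring
  have hcop : IsCoprime (2 : ℤ) (p : ℤ) := by
    exact_mod_cast Nat.isCoprime_iff_coprime.2 ((Nat.coprime_primes Nat.prime_two hp).2 (fun h => hp2 h.symm))
  obtain ⟨a, b, hab⟩ := hcop
  have hzp : z ^ (p : ℤ) = 1 := by
    rw [zpow_natCast, ← hz, pow_orderOf_eq_one]
  have h2 : z ^ j = z ^ (-(2 * (-(a * j)))) := by
    have h3 : j = -(2 * (-(a * j))) + (p : ℤ) * (b * j) := by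
      calc j = (a * 2 + b * p) * j := by rw [hab, one_mul]
        _ = _ := by ring
    conv_lhs => rw [h3, zpow_add, zpow_mul z (p : ℤ), hzp, one_zpow, mul_one]
  have h4 : IsConj g k := by
    rw [isConj_iff]
    refine ⟨z ^ (-(a * j)), ?_⟩
    rw [hgi, ← h2, hk']
  have h5 : IsConj g' k := isConj_iff.2 ⟨c, rfl⟩
  exact h4.trans h5.symm

/-- **Some degree is divisible by `p`**, two classes of involutions. -/
theorem exists_dvd_of_two (hp : p.Prime) (hp2 : p ≠ 2) (hdiv : p ∣ Nat.card G) (hsq : ¬ p ^ 2 ∣ Nat.card G)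
    (hself : ∀ x : G, orderOf x = p → Nat.card (centralizer ({x} : Set G)) = p) {s t : G} (hs : orderOf s = 2)
    (ht : orderOf t = 2) (hst : ¬ IsConj s t) : ∃ d ∈ charDegrees G, p ∣ d := by
  rcases dvd_or hp hp2 hdiv hsq hself hs with h | ⟨g, z, hg, hz, hgz⟩
  · exact h
  rcases dvd_or hp hp2 hdiv hsq hself ht with h | ⟨g', z', hg', hz', hgz'⟩
  · exact h
  exfalso
  exact hst ((hg.trans (conj_of_invert hp hp2 hsq hself hz hz' hgz hgz')).trans hg'.symm)

/-- **Some degree is divisible by `p`**, `|N(P) : C(P)|` odd. -/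
theorem exists_dvd_of_odd (hp : p.Prime) (hp2 : p ≠ 2) (hdiv : p ∣ Nat.card G) (hsq : ¬ p ^ 2 ∣ Nat.card G)
    (hself : ∀ x : G, orderOf x = p → Nat.card (centralizer ({x} : Set G)) = p) (h2 : 2 ∣ Nat.card G)
    (hodd : ∀ P : Subgroup G, Nat.card P = p →
      Odd ((centralizer (P : Set G)).relIndex (normalizer (P : Set G)))) : ∃ d ∈ charDegrees G, p ∣ d := by
  obtain ⟨s, hs⟩ := exists_prime_orderOf_dvd_card' 2 h2
  rcases dvd_or hp hp2 hdiv hsq hself hs with h | ⟨g, z, hg, hz, hgz⟩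
  · exact h
  exfalso
  have ho := hodd (zpowers z) (by rw [Nat.card_zpowers, hz])
  have hgN : g ∈ normalizer ((zpowers z : Subgroup G) : Set G) := by
    have h1 : ∀ i : ℤ, g * z ^ i * g⁻¹ = z ^ (-i) := by
      intro i
      rw [← conj_zpow, hgz, inv_zpow, zpow_neg]
    have h2 : ∀ i : ℤ, g⁻¹ * z ^ i * g = z ^ (-i) := by
      intro i
      have := h1 (-i)
      rw [neg_neg] at this
      rw [← this]; group
    rw [mem_normalizer_iff]
    intro h
    constructor
    · intro hh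
      obtain ⟨i, rfl⟩ := mem_zpowers_iff.1 hh
      rw [h1]
      exact zpow_mem (mem_zpowers z) _
    · intro hh
      obtain ⟨i, hi⟩ := mem_zpowers_iff.1 hh
      have : h = g⁻¹ * z ^ i * g := by rw [hi]; group
      rw [this, h2]
      exact zpow_mem (mem_zpowers z) _
  have hg2 : g ^ 2 ∈ centralizer ((zpowers z : Subgroup G) : Set G) := by
    rw [mem_centralizer_iff]
    intro h hh
    obtain ⟨i, rfl⟩ := mem_zpowers_iff.1 hh
    have h1 : g * z ^ i * g⁻¹ = z ^ (-i) := by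
      rw [← conj_zpow, hgz, inv_zpow, zpow_neg]
    have h1' : g * z ^ (-i) * g⁻¹ = z ^ i := by
      rw [← conj_zpow, hgz, inv_zpow, zpow_neg, inv_inv]
    calc z ^ i * g ^ 2 = (g * (g * z ^ i * g⁻¹) * g⁻¹) * g ^ 2 := by rw [h1, h1']
      _ = g ^ 2 * z ^ i := by rw [pow_two]; group
  have hnc : g ∉ centralizer ((zpowers z : Subgroup G) : Set G) := by
    intro h
    have h1 := mem_centralizer_iff.1 h z (mem_zpowers z)
    have h3 : g * z * g⁻¹ = z := by rw [← h1]; group
    rw [hgz] at h3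
    have h4 : z ^ 2 = 1 := by
      rw [pow_two]
      nth_rewrite 1 [← h3]
      exact inv_mul_cancel z
    have h5 := orderOf_dvd_of_pow_eq_one h4
    rw [hz] at h5
    exact hp2 ((Nat.prime_dvd_prime_iff_eq hp Nat.prime_two).1 h5)
  set N := normalizer ((zpowers z : Subgroup G) : Set G)
  set C := centralizer ((zpowers z : Subgroup G) : Set G)
  have hnorm : (C.subgroupOf N).Normal := by
    have h1 : (zpowers z).normalizerMonoidHom.ker = C.subgroupOf N := (zpowers z).normalizerMonoidHom_ker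
    rw [← h1]
    infer_instance
  have h6 : Nat.card (N ⧸ C.subgroupOf N) = C.relIndex N := rfl
  set q : N ⧸ C.subgroupOf N := QuotientGroup.mk ⟨g, hgN⟩ with hq
  have h7 : q ^ 2 = 1 := by
    rw [hq, ← QuotientGroup.mk_pow, QuotientGroup.eq_one_iff, mem_subgroupOf]
    exact hg2
  have h8 : orderOf q ∣ 2 := orderOf_dvd_of_pow_eq_one h7
  have h9 : orderOf q ∣ C.relIndex N := h6 ▸ orderOf_dvd_natCard q
  have h10 : orderOf q = 1 := by
    rcases (Nat.dvd_prime Nat.prime_two).1 h8 with h | h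
    · exact h
    · rw [h] at h9
      exact absurd ho (Nat.not_odd_iff_even.2 (even_iff_two_dvd.2 h9))
  rw [orderOf_eq_one_iff, hq, QuotientGroup.eq_one_iff, mem_subgroupOf] at h10
  exact hnc h10

end zero

/-! ### Five degrees -/

/-- the conclusion of the block degree equation for the principal block (`p` exactly dividing `|G|`, `G` perfect) -/
def Degs (G : Type*) [Group G] (p e : ℕ) : Prop :=
  ∀ a b c : ℕ, charDegrees G ⊆ {1, a, b, c} → a ≠ 1 → b ≠ 1 → c ≠ 1 → a ≠ b → a ≠ c → b ≠ c →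
    ∃ na nb nc : ℕ, ∃ sa sb sc s : ℤ, ∃ f : ℕ, (sa = 1 ∨ sa = -1) ∧ (sb = 1 ∨ sb = -1) ∧ (sc = 1 ∨ sc = -1) ∧
      (s = 1 ∨ s = -1) ∧ (f = 1 ∨ f = a ∨ f = b ∨ f = c) ∧ 1 + na + nb + nc = e ∧
      (na ≠ 0 → (p : ℤ) ∣ sa * a - 1) ∧ (nb ≠ 0 → (p : ℤ) ∣ sb * b - 1) ∧ (nc ≠ 0 → (p : ℤ) ∣ sc * c - 1) ∧
      (p : ℤ) ∣ f + e * s ∧ 1 + sa * na * a + sb * nb * b + sc * nc * c + s * f = 0

/-- three numbers containing the nonlinear degrees -/
theorem exists_three {G : Type*} [Group G] [Finite G] {p : ℕ} (hp : p.Prime) (hlt : (charDegrees G).ncard < 5)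
    (hd : ∃ d ∈ charDegrees G, p ∣ d) : ∃ a b c : ℕ, charDegrees G ⊆ {1, a, b, c} ∧ a ≠ 1 ∧ b ≠ 1 ∧ c ≠ 1 ∧ a ≠ b ∧
      a ≠ c ∧ b ≠ c ∧ p ∣ c ∧ (a ∈ charDegrees G ∨ p ∣ a) ∧ (b ∈ charDegrees G ∨ p ∣ b) := by
  classical
  have hfin : (charDegrees G).Finite := (Nat.divisors (Nat.card G)).finite_toSet.subset fun d hd =>
    Finset.mem_coe.2 (Nat.mem_divisors.2 ⟨Cfsg.Agent.H424.DegTools.dvd_card hd, Nat.card_pos.ne'⟩)
  obtain ⟨c, hc, hpc⟩ := hd
  have hc1 : c ≠ 1 := fun h => hp.one_lt.ne' (Nat.dvd_one.1 (h ▸ hpc))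
  have h1 : (1 : ℕ) ∈ charDegrees G := Cfsg.Agent.H424.DegTools.one_mem_degrees
  set D : Finset ℕ := hfin.toFinset with hD
  have hDc : D.card < 5 := by rwa [hD, ← Set.ncard_eq_toFinset_card _ hfin]
  have h1D : 1 ∈ D := by rw [hD, Set.Finite.mem_toFinset]; exact h1
  have hcD : c ∈ D := by rw [hD, Set.Finite.mem_toFinset]; exact hc
  set E := (D.erase 1).erase c with hE
  have hEc : E.card ≤ 2 := by
    rw [hE, Finset.card_erase_of_mem (Finset.mem_erase.2 ⟨hc1, hcD⟩), Finset.card_erase_of_mem h1D]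
    omega
  -- a set with two elements containing `E`
  obtain ⟨B, hB⟩ : ∃ B : ℕ, ∀ x ∈ D, x < B := ⟨D.sup id + 1, fun x hx => Nat.lt_succ_of_le (Finset.le_sup (f := id) hx)⟩
  have hpB : B ≤ p * B := Nat.le_mul_of_pos_left _ hp.pos
  obtain ⟨a, b, hab, hEab, ha, hb⟩ : ∃ a b : ℕ, a ≠ b ∧ E ⊆ {a, b} ∧ (a ∈ E ∨ a = p * B) ∧
      (b ∈ E ∨ b = p * (B + 1)) := by
    have hBB : p * B < p * (B + 1) := Nat.mul_lt_mul_of_pos_left (by omega) hp.pos
    have hlt : ∀ x ∈ E, x < B := fun x hx => hB x (Finset.mem_of_mem_erase (Finset.mem_of_mem_erase hx))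
    rcases Nat.lt_or_ge E.card 1 with h0 | h0
    · have : E = ∅ := Finset.card_eq_zero.1 (by omega)
      exact ⟨p * B, p * (B + 1), by omega, by rw [this]; exact Finset.empty_subset _, Or.inr rfl, Or.inr rfl⟩
    rcases Nat.lt_or_ge E.card 2 with h2 | h2
    · obtain ⟨x, hx⟩ := Finset.card_eq_one.1 (show E.card = 1 by omega)
      have hxE : x ∈ E := by rw [hx]; exact Finset.mem_singleton_self x
      have := hlt x hxE
      refine ⟨x, p * (B + 1), by omega, ?_, Or.inl hxE, Or.inr rfl⟩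
      rw [hx]
      intro y hy
      rw [Finset.mem_singleton] at hy
      rw [hy]
      exact Finset.mem_insert_self _ _
    · obtain ⟨x, y, hxy, hE2⟩ := Finset.card_eq_two.1 (show E.card = 2 by omega)
      refine ⟨x, y, hxy, by rw [hE2], Or.inl ?_, Or.inl ?_⟩
      · rw [hE2]; exact Finset.mem_insert_self _ _
      · rw [hE2]; exact Finset.mem_insert_of_mem (Finset.mem_singleton_self _)
  have hE' : ∀ {x}, x ∈ E → x ≠ c ∧ x ≠ 1 ∧ x ∈ charDegrees G := by
    intro x hx
    rw [hE, Finset.mem_erase, Finset.mem_erase] at hx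
    exact ⟨hx.1, hx.2.1, by rw [hD, Set.Finite.mem_toFinset] at hx; exact hx.2.2⟩
  have hcB := hB c hcD
  have hge : ∀ {x}, p * B ≤ x → x ≠ c ∧ x ≠ 1 := by
    intro x hx
    have := hB 1 h1D
    omega
  have hge2 : p * B ≤ p * (B + 1) := Nat.mul_le_mul_left _ (by omega)
  have ha' : a ≠ c ∧ a ≠ 1 ∧ (a ∈ charDegrees G ∨ p ∣ a) := by
    rcases ha with h | rfl
    · exact ⟨(hE' h).1, (hE' h).2.1, Or.inl (hE' h).2.2⟩
    · exact ⟨(hge le_rfl).1, (hge le_rfl).2, Or.inr (dvd_mul_right _ _)⟩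
  have hb' : b ≠ c ∧ b ≠ 1 ∧ (b ∈ charDegrees G ∨ p ∣ b) := by
    rcases hb with h | rfl
    · exact ⟨(hE' h).1, (hE' h).2.1, Or.inl (hE' h).2.2⟩
    · exact ⟨(hge hge2).1, (hge hge2).2, Or.inr (dvd_mul_right _ _)⟩
  refine ⟨a, b, c, ?_, ha'.2.1, hb'.2.1, hc1, hab, ha'.1, hb'.1, hpc, ha'.2.2, hb'.2.2⟩
  intro x hx
  have hxD : x ∈ D := by rw [hD, Set.Finite.mem_toFinset]; exact hx
  by_cases hx1 : x = 1
  · rw [hx1]; exact Set.mem_insert _ _
  by_cases hxc : x = c
  · rw [hxc]; simp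
  have h2 : x ∈ E := Finset.mem_erase.2 ⟨hxc, Finset.mem_erase.2 ⟨hx1, hxD⟩⟩
  have h3 := hEab h2
  simp only [Finset.mem_insert, Finset.mem_singleton] at h3
  simp only [Set.mem_insert_iff, Set.mem_singleton_iff]
  tauto

theorem not_dvd_small {p e : ℕ} (he1 : 1 < e) (hep : e < p - 1) {s t : ℤ} (hs : s = 1 ∨ s = -1) (ht : t = 1 ∨ t = -1) :
    ¬ (p : ℤ) ∣ t + e * s := by
  intro h
  obtain ⟨k, hk⟩ := h
  have h1 : (1 : ℤ) < e := by exact_mod_cast he1
  have h2 : (e : ℤ) + 1 < p := by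
    have : e + 1 < p := by omega
    exact_mod_cast this
  have hk0 : k ≠ 0 := by
    rintro rfl
    rcases hs with rfl | rfl <;> rcases ht with rfl | rfl <;> omega
  rcases lt_or_gt_of_ne hk0 with h3 | h3
  · have : (p : ℤ) * k ≤ -p := by nlinarith
    rcases hs with rfl | rfl <;> rcases ht with rfl | rfl <;> omega
  · have : (p : ℤ) ≤ p * k := by nlinarith
    rcases hs with rfl | rfl <;> rcases ht with rfl | rfl <;> omega

/-- the arithmetic: `a` is exceptional, `b` has multiplicity `e - 1` -/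
theorem arith {N p e a b nb : ℕ} {sb s : ℤ} (he1 : 1 < e) (hep : e < p - 1) (hsb : sb = 1 ∨ sb = -1)
    (hs : s = 1 ∨ s = -1) (hnb : 1 + nb = e) (hb : (p : ℤ) ∣ sb * b - 1) (ha : (p : ℤ) ∣ a + e * s)
    (heq : 1 + sb * nb * b + s * a = 0) (haN : a ∣ N) (hbN : b ∣ N) (hN : 0 < N) (hb1 : b ≠ 1)
    (H : ∀ u, u ∣ N → u ≠ 1 → (u % p = 1 → ¬ ((e - 1) * u + 1) ∣ N) ∧ (u % p = p - 1 → ¬ ((e - 1) * u - 1) ∣ N)) :
    False := by
  have ha0 : 0 < a := Nat.pos_of_dvd_of_pos haN hN
  have hb0 : 0 < b := Nat.pos_of_dvd_of_pos hbN hN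
  have hnb' : nb = e - 1 := by omega
  have hnb1 : 1 ≤ nb := by omega
  have h1 : (1 : ℤ) ≤ nb * b := by
    have : 1 ≤ nb * b := Nat.mul_pos hnb1 hb0
    exact_mod_cast this
  have ha0' : (0 : ℤ) < a := by exact_mod_cast ha0
  have hp3 : 3 < p := by omega
  rcases hsb with rfl | rfl <;> rcases hs with rfl | rfl
  · nlinarith
  · -- a = nb b + 1, b ≡ 1
    have h2 : (a : ℤ) = nb * b + 1 := by linarith
    have h3 : a = nb * b + 1 := by exact_mod_cast h2
    have h4 : b % p = 1 := by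
      have h5 : (b : ℤ) % p = 1 % p := by
        have : (b : ℤ) ≡ 1 [ZMOD p] := (Int.modEq_iff_dvd.2 (by
          have := (dvd_neg.2 hb)
          rwa [one_mul, neg_sub] at this))
        exact this
      have h6 : ((b % p : ℕ) : ℤ) = ((1 % p : ℕ) : ℤ) := by push_cast; exact h5
      have h7 : b % p = 1 % p := by exact_mod_cast h6
      rw [h7, Nat.mod_eq_of_lt (by omega)]
    exact (H b hbN hb1).1 h4 (by rw [← hnb', ← h3]; exact haN)
  · -- a = nb b - 1, b ≡ -1
    have h2 : (a : ℤ) = nb * b - 1 := by linarith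
    have h3 : a = nb * b - 1 := by
      have : a + 1 = nb * b := by
        have : (a : ℤ) + 1 = nb * b := by linarith
        exact_mod_cast this
      omega
    have h4 : b % p = p - 1 := by
      have h5 : p ∣ b + 1 := by
        have : (p : ℤ) ∣ (b : ℤ) + 1 := by
          have := (dvd_neg.2 hb)
          rwa [show -(-1 * (b : ℤ) - 1) = b + 1 by ring] at this
        exact_mod_cast this
      obtain ⟨k, hk⟩ := h5
      rcases k with _ | k
      · omega
      · have h6 : b = (p - 1) + p * k := by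
          rw [Nat.mul_succ] at hk
          omega
        rw [h6, Nat.add_mul_mod_self_left, Nat.mod_eq_of_lt (by omega)]
    exact (H b hbN hb1).2 h4 (by rw [← hnb', ← h3]; exact haN)
  · nlinarith

theorem ne_zero_of {x e : ℕ} (h : 1 < e) (h2 : 1 + x = e) : x ≠ 0 := by omega

theorem not_dvd_e {p e : ℕ} (he1 : 1 < e) (hep : e < p - 1) : ¬ p ∣ e := by
  intro h4
  have := Nat.le_of_dvd (by omega) h4
  omega

/-- **Five degrees** -/
theorem five_of_degs {G : Type*} [Group G] [Finite G] {p e : ℕ} (hp : p.Prime) (he1 : 1 < e) (hep : e < p - 1)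
    (hd : ∃ d ∈ charDegrees G, p ∣ d) (hD : Degs G p e)
    (H : ∀ u, u ∣ Nat.card G → u ≠ 1 → (u % p = 1 → ¬ ((e - 1) * u + 1) ∣ Nat.card G) ∧
      (u % p = p - 1 → ¬ ((e - 1) * u - 1) ∣ Nat.card G)) : 5 ≤ (charDegrees G).ncard := by
  by_contra hcon
  rw [not_le] at hcon
  obtain ⟨a, b, c, hsub, ha1, hb1, hc1, hab, hac, hbc, hpc, ha, hb⟩ := exists_three hp hcon hd
  obtain ⟨na, nb, nc, sa, sb, sc, s, f, hsa, hsb, hsc, hs, hf, hsum, hna, hnb, hnc, hfe, heq⟩ :=
    hD a b c hsub ha1 hb1 hc1 hab hac hbc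
  have hdvd : ∀ {x : ℕ} {t : ℤ}, p ∣ x → ¬ (p : ℤ) ∣ t * x - 1 := by
    intro x t hx h
    have h1 : (p : ℤ) ∣ t * x := Dvd.dvd.mul_left (by exact_mod_cast hx) t
    have h2 : (p : ℤ) ∣ 1 := by
      have := dvd_sub h1 h
      rwa [sub_sub_cancel] at this
    have h3 : p ∣ 1 := by exact_mod_cast h2
    exact hp.one_lt.ne' (Nat.dvd_one.1 h3)
  have hfp : ¬ p ∣ f := by
    intro h
    have h1 : (p : ℤ) ∣ f := by exact_mod_cast h
    have h2 : (p : ℤ) ∣ e * s := (dvd_add_right h1).1 hfe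
    have h3 : (p : ℤ) ∣ e := by
      rcases hs with rfl | rfl
      · simpa using h2
      · simpa using h2
    have h4 : p ∣ e := by exact_mod_cast h3
    exact not_dvd_e he1 hep h4
  have hnc0 : nc = 0 := by
    by_contra h
    exact hdvd hpc (hnc h)
  subst hnc0
  -- a number which is used is not the exceptional one
  have key : ∀ {x : ℕ} {t : ℤ}, (t = 1 ∨ t = -1) → (p : ℤ) ∣ t * x - 1 → (p : ℤ) ∣ x + e * s → False := by
    intro x t ht h1 h2
    have h3 : (p : ℤ) ∣ t + e * s := by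
      have h4 : (p : ℤ) ∣ x - t := by
        rcases ht with rfl | rfl
        · simpa using h1
        · have := dvd_neg.2 h1
          rwa [show -(-1 * (x : ℤ) - 1) = x - -1 by ring] at this
      have := dvd_sub h2 h4
      rwa [show (x : ℤ) + e * s - (x - t) = t + e * s by ring] at this
    exact not_dvd_small he1 hep hs ht h3
  have hN : 0 < Nat.card G := Nat.card_pos
  have hmem : ∀ {x : ℕ}, (x ∈ charDegrees G ∨ p ∣ x) → ¬ p ∣ x → x ∣ Nat.card G := by
    intro x hx hpx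
    rcases hx with h | h
    · exact Cfsg.Agent.H424.DegTools.dvd_card h
    · exact absurd h hpx
  have hnp : ∀ {x : ℕ} {t : ℤ}, (p : ℤ) ∣ t * x - 1 → ¬ p ∣ x := fun h1 h2 => hdvd h2 h1
  rcases hf with rfl | rfl | rfl | rfl
  · exact key (x := 1) (t := 1) (Or.inl rfl) (by simp) (by simpa using hfe)
  · -- `f = a`
    have hna0 : na = 0 := by
      by_contra h
      exact key hsa (hna h) hfe
    subst hna0
    have hsum' : 1 + nb = e := by simpa using hsum
    have hnb1 : nb ≠ 0 := ne_zero_of he1 hsum'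
    refine arith he1 hep hsb hs (nb := nb) hsum' (hnb hnb1) hfe ?_ (hmem ha hfp) (hmem hb (hnp (hnb hnb1))) hN hb1 H
    simpa using heq
  · -- `f = b`
    have hnb0 : nb = 0 := by
      by_contra h
      exact key hsb (hnb h) hfe
    subst hnb0
    have hsum' : 1 + na = e := by simpa using hsum
    have hna1 : na ≠ 0 := ne_zero_of he1 hsum'
    refine arith he1 hep hsa hs (nb := na) hsum' (hna hna1) hfe ?_ (hmem hb hfp) (hmem ha (hnp (hna hna1))) hN ha1 H
    simpa using heq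
  · exact hfp hpc

end Cfsg.Agent.H604.FD.Inner
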