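import Cfsg.Agent.H604.FD.Degs
import Cfsg.Agent.H604.Cop.Conway
import Cfsg.Agent.H548.Crit
import Cfsg.Agent.H370.JNorm
import Cfsg.Agent.H839.SeventeenMain
import Cfsg.Agent.H729.PairBase
import Cfsg.Agent.OddHalf.Table.OutRu
import Cfsg.Agent.Ru127.Y
import Cfsg.Agent.KFacts.Ru.Core
import Cfsg.Agent.RuC.Trans
import Cfsg.Agent.NotCT.Orders
import Cfsg.Agent.HoltZ.Crit
import Cfsg.Agent.SmallSimple.ClassDvd
import Cfsg.Agent.S1697
import Cfsg.Agent.S2068
import Cfsg.Agent.S2069
import Cfsg.Agent.S2070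
import Cfsg.Agent.S2071
import Cfsg.Agent.S2077
import Cfsg.Agent.S2080

/-!
# Five character degrees: `Co1`, `Co2`, `Co3`, `Ru`, `J4`, `Fi23` (helper604, for S4898)
-/

set_option autoImplicit false

namespace Cfsg.Agent.H604.FD.Rows

open Subgroup Cfsg Cfsg.Agent.H604.FD.Inner Cfsg.Agent.H604.FD.Degs
open scoped commutatorElement

universe u v

/-- A simple group with a self-centralizing Sylow subgroup of order `p`. -/
theorem five_simple {K : Type u} [Group K] [Finite K] [IsSimpleGroup K] {N p : ℕ} (e : ℕ) (hp : p.Prime)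
    (hN : Nat.card K = N) (hself : ∀ x : K, orderOf x = p → Nat.card (centralizer ({x} : Set K)) = p)
    (hsq : ¬ p ^ 2 ∣ N) (he : (N / p) % p = e) (he1 : 1 < e) (hep : e < p - 1) (hd : ∃ d ∈ charDegrees K, p ∣ d)
    (L : List (ℕ × ℕ)) (hL : ∀ x ∈ L, x.1.Prime) (hprod : N = p * (L.map fun x => x.1 ^ x.2).prod)
    (hchk : chkD (chkU N p e) L 1 = true) : 5 ≤ (charDegrees K).ncard := by
  have : Fact p.Prime := ⟨hp⟩
  have hdiv : p ∣ Nat.card K := by rw [hN, hprod]; exact dvd_mul_right _ _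
  have hna : ¬ (Nat.card K).Prime := by
    intro h
    have h1 := (Nat.prime_dvd_prime_iff_eq hp h).1 hdiv
    have h2 : N / p = 1 := by
      rw [← hN, ← h1, Nat.div_self hp.pos]
    rw [h2, Nat.mod_eq_of_lt hp.one_lt] at he
    omega
  have hperf : _root_.commutator K = ⊤ := by
    rcases (inferInstance : (_root_.commutator K).Normal).eq_bot_or_eq_top with h | h
    · exfalso
      have h1 : IsMulCommutative K := ⟨⟨fun a b => by
        have h2 : ⁅a, b⁆ ∈ _root_.commutator K := commutator_mem_commutator (mem_top a) (mem_top b)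
        rw [h, mem_bot, commutatorElement_eq_one_iff_mul_comm] at h2
        exact h2⟩⟩
      exact Cop.Conway.not_comm_of_card hna h1
    · exact h
  obtain ⟨x, hx⟩ := exists_prime_orderOf_dvd_card' p hdiv
  obtain ⟨P, hP⟩ := (IsPGroup.of_card (G := zpowers x) (p := p) (n := 1)
    (by rw [pow_one, Nat.card_zpowers, hx])).exists_le_sylow
  have hPx : (P : Subgroup K) = zpowers x := by
    refine (eq_of_le_of_card_ge hP ?_).symm
    obtain ⟨n, hn⟩ := IsPGroup.iff_card.1 P.2
    have h1 : p ^ n ∣ Nat.card K := hn ▸ card_subgroup_dvd_card _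
    have hn1 : n ≤ 1 := by
      by_contra hc
      exact hsq (hN ▸ dvd_trans (pow_dvd_pow p (by omega)) h1)
    rw [Nat.card_zpowers, hx, hn]
    calc p ^ n ≤ p ^ 1 := Nat.pow_le_pow_right hp.pos hn1
      _ = p := pow_one p
  have hPc : Nat.card (P : Subgroup K) = p := by rw [hPx, Nat.card_zpowers, hx]
  have hCP : Nat.card (centralizer ((P : Subgroup K) : Set K)) = p := by
    rw [hPx, H729.PairBase.centralizer_zpowers_eq]
    exact hself x hx
  have hrel := relIndex_eq P hPc hCP
  rw [hN, he] at hrel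
  refine five_of_degs hp he1 hep hd (degs P hPc hrel he1 hep hperf) ?_
  rw [hN]
  intro u hu hu1
  by_cases hpu : p ∣ u
  · have h1 := Nat.mod_eq_zero_of_dvd hpu
    rw [h1]
    exact ⟨fun h => by omega, fun h => by omega⟩
  · have h1 : u ∣ (L.map fun x => x.1 ^ x.2).prod := by
      rw [hprod] at hu
      exact ((Nat.Prime.coprime_iff_not_dvd hp).2 hpu).symm.dvd_of_dvd_mul_left hu
    have h2 := chkD_spec hchk hL u h1
    rw [one_mul] at h2
    exact chkU_spec h2 hu1

/-- the subgroups of order `p` -/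
theorem relIndex_sub {K : Type u} [Group K] [Finite K] {p : ℕ} (hp : p.Prime) (hsq : ¬ p ^ 2 ∣ Nat.card K)
    (hself : ∀ x : K, orderOf x = p → Nat.card (centralizer ({x} : Set K)) = p) {P : Subgroup K}
    (hP : Nat.card P = p) :
    (centralizer (P : Set K)).relIndex (normalizer (P : Set K)) = (Nat.card K / p) % p := by
  have : Fact p.Prime := ⟨hp⟩
  obtain ⟨Q, hQ⟩ := (IsPGroup.of_card (G := P) (p := p) (n := 1) (by rw [pow_one, hP])).exists_le_sylow
  have hQP : (Q : Subgroup K) = P := by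
    refine (eq_of_le_of_card_ge hQ ?_).symm
    obtain ⟨n, hn⟩ := IsPGroup.iff_card.1 Q.2
    have h1 : p ^ n ∣ Nat.card K := hn ▸ card_subgroup_dvd_card _
    have hn1 : n ≤ 1 := by
      by_contra hc
      exact hsq (dvd_trans (pow_dvd_pow p (by omega)) h1)
    rw [hP, hn]
    calc p ^ n ≤ p ^ 1 := Nat.pow_le_pow_right hp.pos hn1
      _ = p := pow_one p
  have hcyc : IsCyclic P := isCyclic_of_prime_card hP
  obtain ⟨x, hx⟩ := hcyc.exists_generator
  have hPx : P = zpowers (x : K) := by
    apply le_antisymm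
    · intro y hy
      obtain ⟨i, hi⟩ := mem_zpowers_iff.1 (hx ⟨y, hy⟩)
      exact mem_zpowers_iff.2 ⟨i, congrArg Subtype.val hi⟩
    · rw [zpowers_le]
      exact x.2
  have hxo : orderOf (x : K) = p := by
    rw [← Nat.card_zpowers, ← hPx, hP]
  have hCP : Nat.card (centralizer (P : Set K)) = p := by
    rw [hPx, H729.PairBase.centralizer_zpowers_eq]
    exact hself x hxo
  rw [← hQP] at hP hCP ⊢
  exact relIndex_eq Q hP hCP

/-- one self-centralizing element of order `p` is enough -/
theorem self_of_one {K : Type u} [Group K] [Finite K] {p : ℕ} (hp : p.Prime) (hsq : ¬ p ^ 2 ∣ Nat.card K) {x₀ : K}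
    (hx₀ : orderOf x₀ = p) (h : Nat.card (centralizer ({x₀} : Set K)) = p) (x : K) (hx : orderOf x = p) :
    Nat.card (centralizer ({x} : Set K)) = p := by
  obtain ⟨g, -, hg⟩ := CpAutBig.Small.conj_of_sylow hp (⊤ : Subgroup K) (by rwa [card_top]) hx hx₀ (mem_top _)
    (mem_top _)
  rw [CpAutBig.CoZero.card_centralizer_of_conj hp hx hx₀ hg, h]

/-- `e` odd -/
theorem five_odd {K : Type u} [Group K] [Finite K] [IsSimpleGroup K] {N p : ℕ} (e : ℕ) (hp : p.Prime)
    (hN : Nat.card K = N) (hself : ∀ x : K, orderOf x = p → Nat.card (centralizer ({x} : Set K)) = p)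
    (hsq : ¬ p ^ 2 ∣ N) (he : (N / p) % p = e) (he1 : 1 < e) (hep : e < p - 1) (hodd : Odd e) (h2 : 2 ∣ N)
    (L : List (ℕ × ℕ)) (hL : ∀ x ∈ L, x.1.Prime) (hprod : N = p * (L.map fun x => x.1 ^ x.2).prod)
    (hchk : chkD (chkU N p e) L 1 = true) : 5 ≤ (charDegrees K).ncard := by
  refine five_simple e hp hN hself hsq he he1 hep ?_ L hL hprod hchk
  refine exists_dvd_of_odd hp (by omega) (by rw [hN, hprod]; exact dvd_mul_right _ _) (by rwa [hN]) hself (by rwa [hN]) ?_
  intro P hP
  rw [relIndex_sub hp (by rwa [hN]) hself hP, hN, he]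
  exact hodd

/-- two classes of involutions -/
theorem five_two {K : Type u} [Group K] [Finite K] [IsSimpleGroup K] {N p : ℕ} (e : ℕ) (hp : p.Prime)
    (hN : Nat.card K = N) (hself : ∀ x : K, orderOf x = p → Nat.card (centralizer ({x} : Set K)) = p)
    (hsq : ¬ p ^ 2 ∣ N) (he : (N / p) % p = e) (he1 : 1 < e) (hep : e < p - 1) {s t : K} (hs : orderOf s = 2)
    (ht : orderOf t = 2) (hst : ¬ IsConj s t)
    (L : List (ℕ × ℕ)) (hL : ∀ x ∈ L, x.1.Prime) (hprod : N = p * (L.map fun x => x.1 ^ x.2).prod)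
    (hchk : chkD (chkU N p e) L 1 = true) : 5 ≤ (charDegrees K).ncard := by
  refine five_simple e hp hN hself hsq he he1 hep ?_ L hL hprod hchk
  exact exists_dvd_of_two hp (by omega) (by rw [hN, hprod]; exact dvd_mul_right _ _) (by rwa [hN]) hself hs ht hst

/-- `G = M` if `M` has no outer automorphisms. -/
theorem five_of_out {G : Type u} [Group G] [Finite G] (M : Subgroup G) (hM : M.Normal)
    (hc : centralizer (M : Set G) = ⊥) {K : Type v} [Group K] [Finite K] (e : M ≃* K)
    (hout : Nat.card (Out K) = 1) (h5 : 5 ≤ (charDegrees K).ncard) : 5 ≤ (charDegrees G).ncard := by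
  have h1 : Nat.card (Out M) = 1 := by rw [H548.Crit.card_out_congr e]; exact hout
  have htop : M = ⊤ := by
    rw [eq_top_iff]
    intro g _
    have h2 : (MulAut.conjNormal g : MulAut M) ∈ Inn M := by
      rw [← QuotientGroup.eq_one_iff]
      exact ((Nat.card_eq_one_iff_unique.1 h1).1).elim _ _
    obtain ⟨m, hm⟩ := h2
    have h3 : g⁻¹ * (m : G) ∈ centralizer (M : Set G) := by
      rw [mem_centralizer_iff]
      intro x hx
      have h4 := congrArg (fun f : MulAut M => ((f ⟨x, hx⟩ : M) : G)) hm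
      have h5 : (m : G) * x * (m : G)⁻¹ = g * x * g⁻¹ := by
        simpa [MulAut.conj_apply, MulAut.conjNormal_apply] using h4
      calc x * (g⁻¹ * m) = g⁻¹ * (g * x * g⁻¹) * m := by group
        _ = g⁻¹ * m * x := by rw [← h5]; group
    rw [hc, mem_bot] at h3
    have h6 : g = m := by
      rw [← inv_mul_eq_one.1 h3]
    rw [h6]
    exact m.2
  have f : G ≃* K := (topEquiv.symm.trans (MulEquiv.subgroupCongr htop.symm)).trans e
  rw [H424.DegTools.charDegrees_congr f]
  exact h5

/-! ### The Conway groups -/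

theorem five_Co1 {G : Type u} [Group G] [Finite G] (M : Subgroup G) (hM : M.Normal)
    (hc : Subgroup.centralizer (M : Set G) = ⊥) (h : Cfsg.Spor.IsoCo1 M) : 5 ≤ (Cfsg.charDegrees G).ncard := by
  obtain ⟨e⟩ := h
  have hf := BpSpor.MBigCo.finite_co1
  have hs : IsSimpleGroup Spor.Co1 := Cfsg.Agent.S0399.result.1
  refine five_of_out M hM hc e Cfsg.Agent.S2069.result ?_
  have hself := self_of_one (K := Spor.Co1) (p := 23) (by norm_num) (by rw [BpSpor.MBigCo.card_co1]; norm_num)
    Cop.Conway.orderOf_s23 ((Cop.Conway.card_eq Cop.Conway.orderOf_s23 Cop.Conway.card_cent_s23).trans Cop.Conway.orderOf_s23)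
  exact five_odd (N := 4157776806543360000) (p := 23) 11 (by norm_num) BpSpor.MBigCo.card_co1 hself (by norm_num)
    (by norm_num) (by norm_num) (by norm_num) (by decide) (by norm_num)
    [(2, 21), (3, 9), (5, 4), (7, 2), (11, 1), (13, 1)] (by decide) (by norm_num) (by decide +kernel)

theorem five_Co2 {G : Type u} [Group G] [Finite G] (M : Subgroup G) (hM : M.Normal)
    (hc : Subgroup.centralizer (M : Set G) = ⊥) (h : Cfsg.Spor.IsoCo2 M) : 5 ≤ (Cfsg.charDegrees G).ncard := by
  obtain ⟨e⟩ := h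
  have hf := H49.CoStab.finite_co2
  have hs := H49.CoStab.simple_co2
  refine five_of_out M hM hc e Cfsg.Agent.S2070.result ?_
  exact five_odd (N := 42305421312000) (p := 23) 11 (by norm_num) H49.CoStab.card_co2 Cop.Conway.self_co2 (by norm_num)
    (by norm_num) (by norm_num) (by norm_num) (by decide) (by norm_num)
    [(2, 18), (3, 6), (5, 3), (7, 1), (11, 1)] (by decide) (by norm_num) (by decide +kernel)

theorem five_Co3 {G : Type u} [Group G] [Finite G] (M : Subgroup G) (hM : M.Normal)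
    (hc : Subgroup.centralizer (M : Set G) = ⊥) (h : Cfsg.Spor.IsoCo3 M) : 5 ≤ (Cfsg.charDegrees G).ncard := by
  obtain ⟨e⟩ := h
  have hf := H49.CoStab.finite_co3
  have hs := H49.CoStab.simple_co3
  refine five_of_out M hM hc e Cfsg.Agent.S2071.result ?_
  exact five_odd (N := 495766656000) (p := 23) 11 (by norm_num) H49.CoStab.card_co3 Cop.Conway.self_co3 (by norm_num)
    (by norm_num) (by norm_num) (by norm_num) (by decide) (by norm_num)
    [(2, 10), (3, 7), (5, 3), (7, 1), (11, 1)] (by decide) (by norm_num) (by decide +kernel)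

/-! ### `Fi23` -/

theorem five_Fi23 {G : Type u} [Group G] [Finite G] (M : Subgroup G) (hM : M.Normal)
    (hc : Subgroup.centralizer (M : Set G) = ⊥) (h : Cfsg.Spor.IsoFi23 M) : 5 ≤ (Cfsg.charDegrees G).ncard := by
  have hcard : Nat.card Spor.Fi23 = 4089470473293004800 := NotCT.Orders.fi23 (K := Spor.Fi23) ⟨MulEquiv.refl _⟩
  obtain ⟨e⟩ := h
  have hf : Finite Spor.Fi23 := Nat.finite_of_card_ne_zero (by rw [hcard]; norm_num)
  have hs : IsSimpleGroup Spor.Fi23 := Cfsg.Agent.S1697.result.1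
  refine five_of_out M hM hc e Cfsg.Agent.S2080.result ?_
  refine five_odd (N := 4089470473293004800) (p := 23) 11 (by norm_num) hcard (fun x hx => ?_) (by norm_num)
    (by norm_num) (by norm_num) (by norm_num) (by decide) (by norm_num)
    [(2, 18), (3, 13), (5, 2), (7, 1), (11, 1), (13, 1), (17, 1)] (by decide) (by norm_num) (by decide +kernel)
  obtain ⟨-, h2⟩ := H839.Fi23.twentythree_main (zpowers x) (by rw [Nat.card_zpowers, hx])
  rw [H729.PairBase.centralizer_zpowers_eq] at h2
  rw [h2, Nat.card_zpowers, hx]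

/-! ### `J4` -/

theorem five_J4 {G : Type u} [Group G] [Finite G] (M : Subgroup G) (hM : M.Normal)
    (hc : Subgroup.centralizer (M : Set G) = ⊥) (h : Cfsg.Spor.IsoJ4 M) : 5 ≤ (Cfsg.charDegrees G).ncard := by
  obtain ⟨e⟩ := h
  have hcard := H370.JElem.card_J4
  have hf := H370.JElem.finite_J4
  have hs := H370.JElem.simple_J4
  refine five_of_out M hM hc e Cfsg.Agent.S2068.result ?_
  obtain ⟨-, s, t, hs2, ht2, hst, -⟩ := Cfsg.Agent.J4Type.Final.isJ4_and_classes H370.JElem.isJ4
    (f := MonoidHom.id Spor.J4) Function.bijective_id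
  refine five_two (N := 86775571046077562880) (p := 31) 10 (by norm_num) hcard (fun x hx => ?_) (by norm_num)
    (by norm_num) (by norm_num) (by norm_num) hs2 ht2 hst
    [(2, 21), (3, 3), (5, 1), (7, 1), (11, 3), (23, 1), (29, 1), (37, 1), (43, 1)] (by decide) (by norm_num)
    (by decide +kernel)
  have h1 := (H859.BigNum.data31 (P := zpowers x) (by rw [Nat.card_zpowers, hx])).1
  rwa [H729.PairBase.centralizer_zpowers_eq] at h1

/-! ### `Ru` -/

theorem five_Ru {G : Type u} [Group G] [Finite G] (M : Subgroup G) (hM : M.Normal)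
    (hc : Subgroup.centralizer (M : Set G) = ⊥) (h : Cfsg.Spor.IsoRu M) : 5 ≤ (Cfsg.charDegrees G).ncard := by
  obtain ⟨e⟩ := h
  let e' := Cfsg.Agent.RuLat.Main.equiv
  have hiso : Spor.IsoRu SporadicB.RuOrder.H := ⟨e'.symm⟩
  have hcard : Nat.card SporadicB.RuOrder.H = 145926144000 := NotCT.Orders.ru hiso
  have hf : Finite SporadicB.RuOrder.H := Nat.finite_of_card_ne_zero (by rw [hcard]; norm_num)
  have hs : IsSimpleGroup SporadicB.RuOrder.H := RuC.Trans.isSimple_of_isoRu hiso
  refine five_of_out M hM hc (e.trans e') (by rw [← H548.Crit.card_out_congr e']; exact Cfsg.Agent.S2077.result) ?_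
  obtain ⟨C, -⟩ := KFacts.Ru.exists_core hiso
  have hz : orderOf (C.z 1) = 2 := HoltZ.Crit.two_orderOf (C.z_sq _) (fun h => one_ne_zero (C.z_eq_one h))
  have ht : orderOf (OddHalf.Table.OutRu.f ^ 7) = 2 := by
    rw [orderOf_pow, OddHalf.Table.OutRu.orderOf_f]; rfl
  have ht7 : orderOf (OddHalf.Table.OutRu.f ^ 2) = 7 := by
    rw [orderOf_pow, OddHalf.Table.OutRu.orderOf_f]; rfl
  have hst : ¬ IsConj (C.z 1) (OddHalf.Table.OutRu.f ^ 7) := by
    intro hconj
    have h1 := SmallSimple.ClassDvd.card_centralizer_conj hconj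
    have h2 : OddHalf.Table.OutRu.f ^ 2 ∈ centralizer ({OddHalf.Table.OutRu.f ^ 7} : Set SporadicB.RuOrder.H) :=
      Inner.mem_cent.2 (by rw [← pow_add, ← pow_add])
    have h3 := Subgroup.orderOf_dvd_natCard _ h2
    rw [ht7] at h3
    rw [← h1, Ru127.Sg.card_cent C] at h3
    norm_num at h3
  have hx := OddHalf.Table.OutRu.orderOf_x
  have hself := self_of_one (K := SporadicB.RuOrder.H) (p := 29) (by norm_num) (by rw [hcard]; norm_num) hx (by
    have h1 : centralizer ({OddHalf.Table.OutRu.x} : Set SporadicB.RuOrder.H) = zpowers OddHalf.Table.OutRu.x := by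
      apply le_antisymm
      · intro c hc
        obtain ⟨i, rfl⟩ := OddHalf.Table.OutRu.cent_x' c (Inner.mem_cent.1 hc)
        exact pow_mem (mem_zpowers _) i
      · rw [zpowers_le]
        exact Inner.mem_cent.2 rfl
    rw [h1, Nat.card_zpowers, hx])
  exact five_two (N := 145926144000) (p := 29) 14 (by norm_num) hcard hself (by norm_num)
    (by norm_num) (by norm_num) (by norm_num) hz ht hst
    [(2, 14), (3, 3), (5, 3), (7, 1), (13, 1)] (by decide) (by norm_num) (by decide +kernel)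

end Cfsg.Agent.H604.FD.Rows
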